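import Cfsg.Agent.Lib.LargeExtra.Setting
import Cfsg.Agent.Lib.LargeExtra.Odd
import Cfsg.Agent.Lib.Inv73.Transfer
import Cfsg.Agent.Lib.Solv.Subnormal
import Cfsg.Agent.Lib.PGroup.Frattini

/-!
Groups with a large extraspecial `2`-subgroup: preparations for the structure theorem.
-/

set_option autoImplicit false

namespace H73.LX

open Cfsg Subgroup H95
open scoped commutatorElement

variable {G : Type*} [Group G]

/-- A `2`-group normalising a subgroup of even order centralises a non-trivial element of it. -/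
theorem exists_cent_of_even [Finite G] {Q K : Subgroup G} (hQ : IsPGroup 2 Q)
    (hn : Q ≤ normalizer (K : Set G)) (hK : 2 ∣ Nat.card K) :
    ∃ k ∈ K, k ≠ 1 ∧ ∀ x ∈ Q, x * k = k * x := by
  let _ : MulAction Q K :=
    { smul := fun q k => ⟨q * k * (q : G)⁻¹, conj_mem_of_normalizer (hn q.2) k.2⟩
      one_smul := fun k => Subtype.ext (by
        show ((1 : Q) : G) * k * ((1 : Q) : G)⁻¹ = k
        simp)
      mul_smul := fun a b k => Subtype.ext (by
        show ((a * b : Q) : G) * k * ((a * b : Q) : G)⁻¹ = a * (b * k * (b : G)⁻¹) * (a : G)⁻¹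
        simp [mul_assoc]) }
  have h1 : (1 : K) ∈ MulAction.fixedPoints Q K := fun q => Subtype.ext (by
    show (q : G) * ((1 : K) : G) * (q : G)⁻¹ = ((1 : K) : G)
    simp)
  obtain ⟨b, hb, hne⟩ := hQ.exists_fixed_point_of_prime_dvd_card_of_fixed_point K hK h1
  refine ⟨b, b.2, fun h => hne (Subtype.ext h.symm), fun x hx => ?_⟩
  have e : x * b * x⁻¹ = b := congrArg Subtype.val (hb ⟨x, hx⟩)
  calc x * b = x * b * x⁻¹ * x := by group
    _ = b * x := by rw [e]

/-- In a non-abelian simple group no involution is self-centralising. -/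
theorem no_self_cent_top {L : Type*} [Group L] [Finite L] [IsSimpleGroup L]
    (hL : ¬ IsMulCommutative L) {t : L} (h1 : t ≠ 1) (ht : t * t = 1)
    (hc : ∀ x, x * t = t * x → x = 1 ∨ x = t) : False := by
  have ho : orderOf t = 2 := orderOf_eq_two_of ht h1
  have hG : ∀ N : Subgroup L, N.Normal → N.index ≠ 2 := by
    intro N hN h2
    rcases hN.eq_bot_or_eq_top with rfl | rfl
    · rw [index_bot] at h2
      have : IsCyclic L := isCyclic_of_prime_card (p := 2) h2
      exact hL inferInstance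
    · simp at h2
  have hp : IsPGroup 2 (zpowers t) := by
    apply IsPGroup.of_card (n := 1)
    rw [Nat.card_zpowers, ho, pow_one]
  obtain ⟨P, hP⟩ := hp.exists_le_sylow
  have htP : t ∈ (P : Subgroup L) := hP (mem_zpowers t)
  obtain ⟨c, hcP, hcc, hc2⟩ := H5.exists_mem_centralizer_orderOf_eq (p := 2) P.isPGroup' le_rfl
    le_normalizer (fun h => h1 (by rw [h] at htP; exact mem_bot.1 htP))
  have hct : c = t := by
    rcases hc c (mem_centralizer_iff.1 hcc t htP).symm with e | e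
    · rw [e, orderOf_one] at hc2; omega
    · exact e
  have hPe : (P : Subgroup L) = zpowers t := by
    refine le_antisymm (fun x hx => ?_) hP
    rw [mem_zpowers_iff_of_sq ht]
    exact hc x (hct ▸ mem_centralizer_iff.1 hcc x hx)
  have hi : (⊥ : Subgroup L).relIndex (P : Subgroup L) = 2 := by
    rw [relIndex_bot_left, hPe, Nat.card_zpowers, ho]
  obtain ⟨g, hg⟩ := exists_conj_mem_of_no_index_two hG P ⊥ hi t ho
  apply h1
  have e : g * t * g⁻¹ = 1 := mem_bot.1 hg
  calc t = g⁻¹ * (g * t * g⁻¹) * g := by group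
    _ = 1 := by rw [e]; group

theorem no_self_cent [Finite G] {L : Subgroup G} (hs : IsSimpleGroup L)
    (hL : ¬ IsMulCommutative L) {t : G} (htL : t ∈ L) (h1 : t ≠ 1) (ht : t * t = 1)
    (hc : ∀ x ∈ L, x * t = t * x → x = 1 ∨ x = t) : False := by
  refine no_self_cent_top hL (t := ⟨t, htL⟩) (fun h => h1 (congrArg Subtype.val h))
    (Subtype.ext ht) (fun x hx => ?_)
  rcases hc x x.2 (congrArg Subtype.val hx) with e | e
  · exact Or.inl (Subtype.ext e)
  · exact Or.inr (Subtype.ext e)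

theorem not_comm_of_component {L : Subgroup G} (hL : IsComponent L) : ¬ IsMulCommutative L := by
  intro h
  apply H23.IsComponent.not_le_centralizer hL
  intro x hx
  rw [mem_centralizer_iff]
  intro y hy
  exact congrArg Subtype.val (h.is_comm.comm (⟨y, hy⟩ : L) ⟨x, hx⟩)

variable {Q : Subgroup G} {z : G}

/-- Every non-trivial `Q`-invariant subgroup contains `z`. -/
theorem mem_of_inv [Finite G] (h : L3 Q z)
    (h4 : ∀ K : Subgroup G, Odd (Nat.card K) → Q ≤ normalizer (K : Set G) → K = ⊥)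
    {K : Subgroup G} (hK : K ≠ ⊥) (hn : Q ≤ normalizer (K : Set G)) : z ∈ K := by
  have he : 2 ∣ Nat.card K := by
    rcases Nat.even_or_odd (Nat.card K) with e | e
    · exact e.two_dvd
    · exact absurd (h4 K e hn) hK
  obtain ⟨k, hk, hk1, hc⟩ := exists_cent_of_even h.isPGroup hn he
  rcases h.cent k hc with e | e
  · exact absurd e hk1
  · exact e ▸ hk

/-- No component centralises `z`. -/
theorem not_le_cent [Finite G] (h : L3 Q z) {K : Subgroup G} (hK : IsComponent K) :
    ¬ K ≤ centralizer ({z} : Set G) := by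
  intro hle
  have hn : K ≤ normalizer (Q : Set G) := h.normalizer_eq ▸ hle
  have hc := H23.IsComponent.commutator_eq_bot_of_isSolvable hK
    (isSolvable_of_isPGroup_two h.isPGroup) hn
  rw [commutator_eq_bot_iff_le_centralizer, h.centralizer_eq] at hc
  refine H23.IsComponent.not_le_of_isSolvable hK ?_ hc
  infer_instance

/-- The case `O₂(G) ≠ 1`. -/
theorem case_pCore [Finite G] (h : L3 Q z)
    (h4 : ∀ K : Subgroup G, Odd (Nat.card K) → Q ≤ normalizer (K : Set G) → K = ⊥)
    (hO : pCore 2 G ≠ ⊥) :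
    IsMulCommutative (normalClosure ({z} : Set G)) ∧
      generalizedFittingSubgroup G = pCore 2 G := by
  have hn : ∀ (K : Subgroup G) [K.Normal], Q ≤ normalizer (K : Set G) := fun K _ => by
    rw [normalizer_eq_top]; exact le_top
  obtain ⟨c, hc1, hc2, hc3⟩ := H5.exists_mem_centralizer_orderOf_eq (p := 2)
    (H1.isPGroup_pCore (p := 2) (G := G)) le_rfl le_normalizer hO
  have hZ : pCore 2 G ⊓ centralizer (pCore 2 G : Set G) ≠ ⊥ := by
    intro e
    have : c ∈ pCore 2 G ⊓ centralizer (pCore 2 G : Set G) := ⟨hc1, hc2⟩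
    rw [e, mem_bot] at this
    rw [this, orderOf_one] at hc3
    omega
  have hz := mem_of_inv h h4 hZ (hn _)
  have hM : normalClosure ({z} : Set G) ≤ pCore 2 G ⊓ centralizer (pCore 2 G : Set G) :=
    normalClosure_le_normal (by simpa using hz)
  refine ⟨⟨⟨fun a b => Subtype.ext ?_⟩⟩, ?_⟩
  · exact mem_centralizer_iff.1 (hM b.2).2 a (hM a.2).1
  · rw [H23.fStar_eq_pCore_iff, H23.centralizer_pCore_le_iff]
    refine ⟨h4 _ (H1.odd_card_oddCore) (hn _), ?_⟩
    rw [H23.layer_eq_bot_iff]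
    intro L hL
    apply not_le_cent h hL
    intro x hx
    have := H23.layer_le_centralizer_pCore (G := G) 2 (H23.IsComponent.le_layer hL hx)
    exact mem_cent_iff.2 (mem_centralizer_iff.1 this z hz.1).symm

theorem fitting_eq_bot [Finite G]
    (h4 : ∀ K : Subgroup G, Odd (Nat.card K) → Q ≤ normalizer (K : Set G) → K = ⊥)
    (hO : pCore 2 G = ⊥) : fittingSubgroup G = ⊥ := by
  have e : pPrimeCore 2 G = ⊥ :=
    h4 _ (H1.odd_card_oddCore) (by rw [normalizer_eq_top]; exact le_top)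
  exact le_bot_iff.1 (e ▸ H23.fitting_le_pPrimeCore_of_pCore_eq_bot hO)

theorem eq_one_of_cent [Finite G] (hF : fittingSubgroup G = ⊥) {L : Subgroup G}
    (hL : IsComponent L) {x : G} (hx : x ∈ L) (hc : x ∈ centralizer (L : Set G)) : x = 1 := by
  have := H23.inf_centralizer_le_fitting (H23.IsComponent.isSubnormal hL) ⟨hx, hc⟩
  rwa [hF, mem_bot] at this

theorem le_cent_of_ne {L K : Subgroup G} (hL : IsComponent L) (hK : IsComponent K) (hne : K ≠ L) :
    K ≤ centralizer (L : Set G) := by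
  rw [← commutator_eq_bot_iff_le_centralizer]
  exact H23.IsComponent.commutator_eq_bot_of_ne hK hL hne

theorem map_conj_mul (L : Subgroup G) (a b : G) :
    (L.map (MulAut.conj b).toMonoidHom).map (MulAut.conj a).toMonoidHom =
      L.map (MulAut.conj (a * b)).toMonoidHom := by
  ext x
  simp only [mem_map_conj, mul_inv_rev, mul_assoc]

theorem map_conj_eq_self {L : Subgroup G} {a : G} (ha : a ∈ normalizer (L : Set G)) :
    L.map (MulAut.conj a).toMonoidHom = L := by
  ext x
  rw [mem_map_conj]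
  refine ⟨fun hx => ?_, fun hx => conj_mem_of_normalizer' ha hx⟩
  have := conj_mem_of_normalizer ha hx
  simpa [mul_assoc] using this

theorem conj_mem_map {L : Subgroup G} {x : G} (hx : x ∈ L) (a : G) :
    a * x * a⁻¹ ∈ L.map (MulAut.conj a).toMonoidHom := by
  rw [mem_map_conj]; simpa [mul_assoc] using hx

/-- `Q` permutes the components transitively. -/
theorem exists_conj_comp [Finite G] (h : L3 Q z)
    (h4 : ∀ K : Subgroup G, Odd (Nat.card K) → Q ≤ normalizer (K : Set G) → K = ⊥)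
    {L K : Subgroup G} (hL : IsComponent L) (hK : IsComponent K) :
    ∃ q ∈ Q, K = L.map (MulAut.conj q).toMonoidHom := by
  by_contra hno
  push Not at hno
  set S : Set (Subgroup G) := {A | ∃ q ∈ Q, A = L.map (MulAut.conj q).toMonoidHom} with hS
  have hLS : L ≤ sSup S := le_sSup ⟨1, Q.one_mem, (map_conj_eq_self (one_mem _)).symm⟩
  have hne : sSup S ≠ ⊥ := fun e => H23.IsComponent.ne_bot hL (le_bot_iff.1 (e ▸ hLS))
  have hn : Q ≤ normalizer ((sSup S : Subgroup G) : Set G) := by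
    apply le_normalizer_of_conj
    intro g hg x hx
    have : sSup S ≤ (sSup S).comap (MulAut.conj g).toMonoidHom := by
      refine sSup_le ?_
      rintro A ⟨q, hq, rfl⟩ y hy
      have e : L.map (MulAut.conj (g * q)).toMonoidHom ≤ sSup S :=
        le_sSup ⟨g * q, Q.mul_mem hg hq, rfl⟩
      apply e
      rw [← map_conj_mul]
      exact conj_mem_map hy g
    exact this hx
  have hz := mem_of_inv h h4 hne hn
  apply not_le_cent h hK
  have : K ≤ centralizer ((sSup S : Subgroup G) : Set G) := by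
    rw [H23.le_centralizer_sSup_iff]
    rintro A ⟨q, hq, rfl⟩
    exact le_cent_of_ne (H23.IsComponent.map_conj hL q) hK (hno q hq)
  intro x hx
  exact mem_cent_iff.2 (mem_centralizer_iff.1 (this hx) z hz).symm

theorem exists_comp [Finite G] (h : ES Q z) (hF : fittingSubgroup G = ⊥) :
    ∃ L : Subgroup G, IsComponent L := by
  by_contra hno
  push Not at hno
  have : Nontrivial G := ⟨⟨z, 1, h.ne_one⟩⟩
  apply H23.fStar_ne_bot (G := G)
  rw [H23.fStar_def, hF, H23.layer_eq_bot_iff.2 hno, bot_sup_eq]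

theorem closure_eq_layer [Finite G] (h : L3 Q z)
    (h4 : ∀ K : Subgroup G, Odd (Nat.card K) → Q ≤ normalizer (K : Set G) → K = ⊥)
    (hF : fittingSubgroup G = ⊥) : normalClosure ({z} : Set G) = layer G := by
  obtain ⟨L, hL⟩ := exists_comp h.toES hF
  have hne : layer G ≠ ⊥ := fun e => H23.layer_eq_bot_iff.1 e L hL
  have hz := mem_of_inv h h4 hne (by rw [normalizer_eq_top]; exact le_top)
  refine le_antisymm (normalClosure_le_normal (by simpa using hz)) ?_
  rw [H23.layer_le_iff]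
  intro K hK
  rcases H23.IsComponent.le_or_commutator_eq_bot hK
    (H := normalClosure ({z} : Set G)) (Subgroup.Normal.isSubnormal inferInstance) with e | e
  · exact e
  · exfalso
    apply not_le_cent h hK
    rw [commutator_eq_bot_iff_le_centralizer] at e
    intro x hx
    exact mem_cent_iff.2
      (mem_centralizer_iff.1 (e hx) z (subset_normalClosure (Set.mem_singleton z))).symm

/-- The decomposition of an element of the layer along a component. -/
theorem exists_part {L : Subgroup G} (hL : IsComponent L) {x : G} (hx : x ∈ layer G) :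
    ∃ a ∈ L, a⁻¹ * x ∈ centralizer (L : Set G) := by
  rw [H23.IsComponent.layer_eq_sup_centralizer hL] at hx
  have hn : layer G ⊓ centralizer (L : Set G) ≤ normalizer (L : Set G) :=
    inf_le_right.trans (centralizer_le_normalizer _)
  obtain ⟨a, ha, b, hb, rfl⟩ := (mem_sup_iff_of_norm hn).1 hx
  exact ⟨a, ha, by simpa using hb.2⟩

/-- The data of a subgroup `L` with trivial centre moved by `u ∈ Q` to a commuting conjugate. -/
structure Moved (Q : Subgroup G) (z : G) (L : Subgroup G) (u z₁ : G) : Prop where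
  h : L3 Q z
  zc : ∀ x ∈ L, x ∈ centralizer (L : Set G) → x = 1
  uQ : u ∈ Q
  uc : ∀ x ∈ L, u * x * u⁻¹ ∈ centralizer (L : Set G)
  mem : z₁ ∈ L
  wc : z₁⁻¹ * z ∈ centralizer (L : Set G)

namespace Moved

variable {L : Subgroup G} {u z₁ : G}

theorem sq (m : Moved Q z L u z₁) : z₁ * z₁ = 1 := by
  have hw := mem_centralizer_iff.1 m.wc z₁ m.mem
  have e : z₁⁻¹ * z₁⁻¹ = (z₁⁻¹ * z) * (z₁⁻¹ * z) := by
    have e1 : z * z₁ = z₁ * z := by
      calc z * z₁ = z₁ * (z₁⁻¹ * z * z₁) := by group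
        _ = z₁ * (z₁ * (z₁⁻¹ * z)) := by rw [hw]
        _ = z₁ * z := by group
    have e2 : z * z₁⁻¹ = z₁⁻¹ * z := by
      calc z * z₁⁻¹ = z₁⁻¹ * (z₁ * z) * z₁⁻¹ := by group
        _ = z₁⁻¹ * z := by rw [← e1]; group
    calc z₁⁻¹ * z₁⁻¹ = z₁⁻¹ * z₁⁻¹ * (z * z) := by rw [m.h.sq, mul_one]
      _ = z₁⁻¹ * (z₁⁻¹ * z) * z := by group
      _ = z₁⁻¹ * (z * z₁⁻¹) * z := by rw [e2]
      _ = _ := by group
  have := m.zc (z₁⁻¹ * z₁⁻¹) (L.mul_mem (L.inv_mem m.mem) (L.inv_mem m.mem))
    (e ▸ mul_mem m.wc m.wc)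
  rw [← mul_inv_rev, inv_eq_one] at this
  exact this

theorem comm_iff (m : Moved Q z L u z₁) {x : G} (hx : x ∈ L) :
    x * z = z * x ↔ x * z₁ = z₁ * x := by
  have hw := mem_centralizer_iff.1 m.wc x hx
  constructor
  · intro e
    have e2 : x * z₁⁻¹ = z₁⁻¹ * x := by
      calc x * z₁⁻¹ = x * (z₁⁻¹ * z) * z⁻¹ := by group
        _ = z₁⁻¹ * (z * x) * z⁻¹ := by rw [hw]; group
        _ = z₁⁻¹ * x := by rw [← e]; group
    calc x * z₁ = z₁ * (z₁⁻¹ * x) * z₁ := by group
      _ = z₁ * x := by rw [← e2]; group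
  · intro e
    calc x * z = x * z₁ * (z₁⁻¹ * z) := by group
      _ = z₁ * (x * (z₁⁻¹ * z)) := by rw [e]; group
      _ = z * x := by rw [hw]; group

theorem y_mem (m : Moved Q z L u z₁) {x : G} (hx : x ∈ L) (hc : x * z₁ = z₁ * x) :
    x⁻¹ * (u * x * u⁻¹) ∈ Q := by
  have hn := m.h.norm x ((m.comm_iff hx).2 hc)
  have := Q.mul_mem (conj_mem_of_normalizer' hn m.uQ) (Q.inv_mem m.uQ)
  simpa [mul_assoc] using this

/-- An element of `L` congruent to `z` modulo the centraliser of `L` is `z₁`. -/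
theorem eq_of_mod (m : Moved Q z L u z₁) {x : G} (hx : x ∈ L)
    (hc : x⁻¹ * z ∈ centralizer (L : Set G)) : x = z₁ := by
  have e : x⁻¹ * z₁ = (x⁻¹ * z) * (z₁⁻¹ * z)⁻¹ := by group
  have := m.zc (x⁻¹ * z₁) (L.mul_mem (L.inv_mem hx) m.mem) (e ▸ mul_mem hc (inv_mem m.wc))
  rw [inv_mul_eq_one] at this
  exact this

theorem sq_cases (m : Moved Q z L u z₁) {x : G} (hx : x ∈ L) (hc : x * z₁ = z₁ * x) :
    x * x = 1 ∨ x * x = z₁ := by
  have hy := m.y_mem hx hc
  have hux := m.uc x hx
  have e1 := mem_centralizer_iff.1 hux x⁻¹ (L.inv_mem hx)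
  have e : x⁻¹ * (u * x * u⁻¹) * (x⁻¹ * (u * x * u⁻¹)) =
      (x * x)⁻¹ * ((u * x * u⁻¹) * (u * x * u⁻¹)) := by
    calc x⁻¹ * (u * x * u⁻¹) * (x⁻¹ * (u * x * u⁻¹))
        = x⁻¹ * ((u * x * u⁻¹) * x⁻¹) * (u * x * u⁻¹) := by group
      _ = x⁻¹ * (x⁻¹ * (u * x * u⁻¹)) * (u * x * u⁻¹) := by rw [e1]
      _ = _ := by group
  have hxx := L.mul_mem hx hx
  rcases m.h.sq_mem hy with h | h
  · left
    rw [e, inv_mul_eq_one] at h
    exact m.zc _ hxx (h ▸ mul_mem hux hux)
  · right
    rw [e] at h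
    have : (x * x)⁻¹ = z₁ := by
      apply m.eq_of_mod (L.inv_mem hxx)
      rw [← h, inv_inv, mul_inv_cancel_left]
      exact mul_mem hux hux
    rw [inv_eq_iff_eq_inv] at this
    rw [this, inv_eq_iff_mul_eq_one]
    exact m.sq

theorem pow_four (m : Moved Q z L u z₁) {x : G} (hx : x ∈ L) (hc : x * z₁ = z₁ * x) :
    x ^ 2 ^ 2 = 1 := by
  have e : x ^ 2 ^ 2 = (x * x) * (x * x) := by norm_num [pow_succ, mul_assoc]
  rcases m.sq_cases hx hc with h | h
  · rw [e, h, one_mul]
  · rw [e, h, m.sq]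

/-- A third commuting conjugate makes `z₁` self-centralising in `L`. -/
theorem third (m : Moved Q z L u z₁) {v : G} (hv : v ∈ Q)
    (h1 : ∀ x ∈ L, v * x * v⁻¹ ∈ centralizer (L : Set G))
    (h2 : ∀ x ∈ L, (v * u) * x * (v * u)⁻¹ ∈ centralizer (L : Set G))
    {x : G} (hx : x ∈ L) (hc : x * z₁ = z₁ * x) : x = 1 ∨ x = z₁ := by
  have hy := m.y_mem hx hc
  have hux := m.uc x hx
  have e : v * (x⁻¹ * (u * x * u⁻¹)) * v⁻¹ =
      (v * x⁻¹ * v⁻¹) * ((v * u) * x * (v * u)⁻¹) := by group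
  have hm : v * (x⁻¹ * (u * x * u⁻¹)) * v⁻¹ ∈ centralizer (L : Set G) :=
    e ▸ mul_mem (h1 _ (L.inv_mem hx)) (h2 _ hx)
  rcases m.h.conj hy hv with h | h
  · left
    rw [h] at hm
    have := mul_mem hm (inv_mem hux)
    rw [mul_inv_cancel_right] at this
    exact inv_eq_one.1 (m.zc _ (L.inv_mem hx) this)
  · right
    rw [h] at hm
    apply m.eq_of_mod hx
    have e1 := mem_centralizer_iff.1 hux x⁻¹ (L.inv_mem hx)
    rw [e1, mul_assoc] at hm
    have := mul_mem (inv_mem hux) hm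
    rwa [inv_mul_cancel_left] at this

/-- If the centraliser of `z₁` in `L` lies in `Q`, then `z₁` is self-centralising in `L`. -/
theorem of_mem (m : Moved Q z L u z₁) {x : G} (hx : x ∈ L) (hQ : x ∈ Q) : x = 1 ∨ x = z₁ := by
  have hux := m.uc x hx
  rcases m.h.conj hQ m.uQ with h | h
  · left
    exact m.zc x hx (h ▸ hux)
  · right
    rw [h] at hux
    have : x⁻¹ = z₁ := m.eq_of_mod (L.inv_mem hx) (by rwa [inv_inv])
    rw [inv_eq_iff_eq_inv] at this
    rw [this, inv_eq_iff_mul_eq_one]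
    exact m.sq

end Moved

end H73.LX
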